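import Mathlib
import Groth.Prelude.Def_DRing3

/-!
# Formal orthogonality lemmas in `D(A)` (helper36)

Namespace `Groth.Agent.Lib.Helper36.GM`.
-/

set_option autoImplicit false
universe u
open CategoryTheory CategoryTheory.Limits CategoryTheory.Pretriangulated
attribute [local instance] HasDerivedCategory.standard

namespace Groth.Agent.Lib.Helper36.GM

variable {A : Type u} [CommRing A]

/-- objects receiving no nonzero map from `Z` -/
def LeftOrth (S : Dual.D A → Prop) (Z : Dual.D A) : Prop :=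
  ∀ E : Dual.D A, S E → ∀ c : Z ⟶ E, c = 0

/-- objects admitting no nonzero map to `W` -/
def RightOrth (S : Dual.D A → Prop) (W : Dual.D A) : Prop :=
  ∀ T : Dual.D A, S T → ∀ a : T ⟶ W, a = 0

/-- a class of objects stable under shifts -/
def ShiftStable (S : Dual.D A → Prop) : Prop := ∀ (E : Dual.D A) (n : ℤ), S E → S (E⟦n⟧)

lemma LeftOrth.shift {S : Dual.D A → Prop} (hS : ShiftStable S) {Z : Dual.D A}
    (hZ : LeftOrth S Z) (n : ℤ) : LeftOrth S (Z⟦n⟧) := by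
  intro E hE c
  let e := (shiftFunctorCompIsoId (Dual.D A) (-n) n (neg_add_cancel n)).app E
  have h1 : (CategoryTheory.shiftFunctor (Dual.D A) n).preimage (c ≫ e.inv) = 0 :=
    hZ _ (hS E (-n) hE) _
  have h2 : c ≫ e.inv = 0 := by
    rw [← (CategoryTheory.shiftFunctor (Dual.D A) n).map_preimage (c ≫ e.inv), h1,
      CategoryTheory.Functor.map_zero]
  rw [← cancel_mono e.inv, h2, zero_comp]

lemma RightOrth.shift {S : Dual.D A → Prop} (hS : ShiftStable S) {W : Dual.D A}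
    (hW : RightOrth S W) (n : ℤ) : RightOrth S (W⟦n⟧) := by
  intro T hT a
  let e := (shiftFunctorCompIsoId (Dual.D A) (-n) n (neg_add_cancel n)).app T
  have h1 : (CategoryTheory.shiftFunctor (Dual.D A) n).preimage (e.hom ≫ a) = 0 :=
    hW _ (hS T (-n) hT) _
  have h2 : e.hom ≫ a = 0 := by
    rw [← (CategoryTheory.shiftFunctor (Dual.D A) n).map_preimage (e.hom ≫ a), h1,
      CategoryTheory.Functor.map_zero]
  rw [← cancel_epi e.hom, h2, comp_zero]

/-- the third vertex of a triangle on a universal arrow is left orthogonal -/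
lemma leftOrth_cone {S : Dual.D A → Prop} (hS : ShiftStable S) {X Y Z : Dual.D A} (η : X ⟶ Y)
    (β : Y ⟶ Z) (γ : Z ⟶ X⟦(1 : ℤ)⟧) (hT : Triangle.mk η β γ ∈ distTriang (Dual.D A))
    (h : ∀ E : Dual.D A, S E → Function.Bijective (fun v : Y ⟶ E => η ≫ v)) : LeftOrth S Z := by
  intro E hE c
  have h12 : η ≫ β = 0 := comp_distTriang_mor_zero₁₂ _ hT
  have h31 : γ ≫ η⟦(1 : ℤ)⟧' = 0 := comp_distTriang_mor_zero₃₁ _ hT
  have h1 : β ≫ c = 0 := by
    apply (h E hE).1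
    show η ≫ β ≫ c = η ≫ 0
    rw [← Category.assoc, h12, zero_comp, comp_zero]
  obtain ⟨d, hd⟩ : ∃ d : X⟦(1 : ℤ)⟧ ⟶ E, c = γ ≫ d := Triangle.yoneda_exact₃ _ hT c h1
  -- `d : X⟦1⟧ ⟶ E` extends along `η⟦1⟧'`
  let e : (E⟦(-1 : ℤ)⟧)⟦(1 : ℤ)⟧ ≅ E :=
    (shiftFunctorCompIsoId (Dual.D A) (-1 : ℤ) 1 (neg_add_cancel 1)).app E
  obtain ⟨u, hu⟩ := (h _ (hS E (-1) hE)).2
    ((CategoryTheory.shiftFunctor (Dual.D A) (1 : ℤ)).preimage (d ≫ e.inv))
  have hu' : η ≫ u = (CategoryTheory.shiftFunctor (Dual.D A) (1 : ℤ)).preimage (d ≫ e.inv) := hu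
  have h2 : d ≫ e.inv = η⟦(1 : ℤ)⟧' ≫ u⟦(1 : ℤ)⟧' := by
    rw [← Functor.map_comp, hu', Functor.map_preimage]
  have h3 : d = η⟦(1 : ℤ)⟧' ≫ u⟦(1 : ℤ)⟧' ≫ e.hom := by
    rw [← Category.assoc, ← h2, Category.assoc, e.inv_hom_id, Category.comp_id]
  rw [hd, h3, ← Category.assoc, h31, zero_comp]

/-- if `Z` is left orthogonal to a shift-stable class containing the cone of `g • 𝟙 Z`, then `g`
acts invertibly on `Z` -/
lemma isIso_smul_of_leftOrth {S : Dual.D A → Prop} (hS : ShiftStable S) {Z Z' : Dual.D A} (g : A)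
    (β : Z ⟶ Z') (γ : Z' ⟶ Z⟦(1 : ℤ)⟧)
    (hT : Triangle.mk (g • 𝟙 Z) β γ ∈ distTriang (Dual.D A)) (hZ : LeftOrth S Z) (hZ' : S Z') :
    IsIso (g • 𝟙 Z) := by
  have hβ : β = 0 := hZ Z' hZ' β
  have hT' := rot_of_distTriang _ hT
  obtain ⟨r, hr⟩ := Triangle.yoneda_exact₂ _ hT' (𝟙 Z') (by
    change β ≫ 𝟙 Z' = 0
    rw [hβ, zero_comp])
  have hr0 : r = 0 := (hZ.shift hS 1) Z' hZ' r
  have h0 : IsZero Z' := by
    rw [IsZero.iff_id_eq_zero, hr, hr0]
    exact comp_zero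
  exact (Triangle.isZero₃_iff_isIso₁ _ hT).1 h0

/-- a map whose cone is right orthogonal to `S` induces bijections on maps out of objects of `S` -/
lemma bijective_postcomp_of_rightOrth {S : Dual.D A → Prop} (hS : ShiftStable S)
    {X Y Z : Dual.D A} (η : X ⟶ Y) (β : Y ⟶ Z) (γ : Z ⟶ X⟦(1 : ℤ)⟧)
    (hT : Triangle.mk η β γ ∈ distTriang (Dual.D A)) (hZ : RightOrth S Z) :
    ∀ T : Dual.D A, S T → Function.Bijective (fun a : T ⟶ X => a ≫ η) := by
  intro T hT'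
  constructor
  · intro a a' haa
    have h1 : (a - a') ≫ η = 0 := by
      rw [Preadditive.sub_comp]
      exact sub_eq_zero.mpr haa
    obtain ⟨b, hb⟩ := Triangle.coyoneda_exact₂ _ (inv_rot_of_distTriang _ hT) (a - a') h1
    have hb0 : b = 0 := (hZ.shift hS (-1)) T hT' b
    rw [hb0, zero_comp] at hb
    exact sub_eq_zero.mp hb
  · intro c
    have h1 : c ≫ β = 0 := hZ T hT' _
    obtain ⟨a, ha⟩ := Triangle.coyoneda_exact₂ _ hT c h1
    exact ⟨a, ha.symm⟩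

/-- the cone of a map inducing bijections on maps out of objects of `S` is right orthogonal -/
lemma rightOrth_cone {S : Dual.D A → Prop} (hS : ShiftStable S) {X Y Z : Dual.D A} (ε : X ⟶ Y)
    (β : Y ⟶ Z) (γ : Z ⟶ X⟦(1 : ℤ)⟧) (hT : Triangle.mk ε β γ ∈ distTriang (Dual.D A))
    (h : ∀ T : Dual.D A, S T → Function.Bijective (fun a : T ⟶ X => a ≫ ε)) : RightOrth S Z := by
  intro T hT' x
  -- `x ≫ γ` is killed by `ε⟦1⟧'`, hence zero
  have h1 : x ≫ γ = 0 := by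
    let e := (shiftFunctorCompIsoId (Dual.D A) (-1 : ℤ) 1 (neg_add_cancel 1)).app T
    have h2 : (CategoryTheory.shiftFunctor (Dual.D A) (1 : ℤ)).preimage (e.hom ≫ x ≫ γ) = 0 := by
      apply (h _ (hS T (-1) hT')).1
      show _ ≫ ε = 0 ≫ ε
      rw [zero_comp]
      apply (CategoryTheory.shiftFunctor (Dual.D A) (1 : ℤ)).map_injective
      rw [Functor.map_comp, Functor.map_preimage, CategoryTheory.Functor.map_zero, Category.assoc,
        Category.assoc]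
      change e.hom ≫ x ≫ γ ≫ ε⟦(1 : ℤ)⟧' = 0
      have h31 : γ ≫ ε⟦(1 : ℤ)⟧' = 0 := comp_distTriang_mor_zero₃₁ _ hT
      rw [h31, comp_zero, comp_zero]
    have h3 : e.hom ≫ x ≫ γ = 0 := by
      rw [← (CategoryTheory.shiftFunctor (Dual.D A) (1 : ℤ)).map_preimage (e.hom ≫ x ≫ γ), h2,
        CategoryTheory.Functor.map_zero]
    rw [← cancel_epi e.hom, h3, comp_zero]
  obtain ⟨y, hy⟩ : ∃ y : T ⟶ Y, x = y ≫ β := Triangle.coyoneda_exact₃ _ hT x h1
  obtain ⟨z, hz⟩ := (h T hT').2 y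
  have hz' : z ≫ ε = y := hz
  have h12 : ε ≫ β = 0 := comp_distTriang_mor_zero₁₂ _ hT
  rw [hy, ← hz', Category.assoc, h12, comp_zero]

/-- right orthogonality passes to the third vertex of a triangle -/
lemma RightOrth.obj₃ {S : Dual.D A → Prop} (hS : ShiftStable S) (T : Triangle (Dual.D A))
    (hT : T ∈ distTriang (Dual.D A)) (h1 : RightOrth S T.obj₁) (h2 : RightOrth S T.obj₂) :
    RightOrth S T.obj₃ := by
  intro X hX a
  have h : a ≫ T.mor₃ = 0 := (h1.shift hS 1) X hX _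
  obtain ⟨b, hb⟩ := Triangle.coyoneda_exact₃ _ hT a h
  rw [hb, h2 X hX b, zero_comp]

/-- a universal arrow with left orthogonal source has zero target -/
lemma precomp_bijective_of_leftOrth {S : Dual.D A → Prop} (hS : ShiftStable S)
    {X Y Z : Dual.D A} (ε : X ⟶ Y) (β : Y ⟶ Z) (γ : Z ⟶ X⟦(1 : ℤ)⟧)
    (hT : Triangle.mk ε β γ ∈ distTriang (Dual.D A)) (hZ : LeftOrth S Z) :
    ∀ E : Dual.D A, S E → Function.Bijective (fun v : Y ⟶ E => ε ≫ v) := by
  intro E hE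
  constructor
  · intro v v' hvv
    have h1 : ε ≫ (v - v') = 0 := by
      rw [Preadditive.comp_sub]
      exact sub_eq_zero.mpr hvv
    obtain ⟨c, hc⟩ : ∃ c : Z ⟶ E, v - v' = β ≫ c := Triangle.yoneda_exact₂ _ hT (v - v') h1
    rw [hZ E hE c, comp_zero] at hc
    exact sub_eq_zero.mp hc
  · intro w
    have h1 : (Triangle.invRotate (Triangle.mk ε β γ)).mor₁ ≫ w = 0 :=
      (hZ.shift hS (-1)) E hE _
    obtain ⟨v, hv⟩ := Triangle.yoneda_exact₂ _ (inv_rot_of_distTriang _ hT) w h1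
    exact ⟨v, hv.symm⟩

end Groth.Agent.Lib.Helper36.GM
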