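import Mathlib
import Groth.Agent.Lib.Helper36.GM.Formal
import Groth.Agent.Lib.Helper36.DerivedCompletionExists
import Groth.Agent.Lib.Helper36.FunctorCompletion
import Groth.Agent.Lib.Helper6.RGammaAdj2
import Groth.Agent.Lib.Helper6.RGammaColim
import Groth.Agent.Lib.Helper12.DRingPCShift

/-!
# Torsion objects and local objects in `D(A)` (helper36)

Objects with `I`-power torsion cohomology admit no nonzero maps to objects on which some `f ∈ I`
acts invertibly.
-/

set_option autoImplicit false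
universe u
open CategoryTheory CategoryTheory.Limits CategoryTheory.Pretriangulated
attribute [local instance] HasDerivedCategory.standard

namespace Groth.Agent.Lib.Helper36.GM

open Groth.Agent.Lib.Helper12 Groth.Agent.Lib.Helper6.PowTorsHB Groth.Agent.Lib.Helper6.RGammaAdj
  Groth.Agent.Lib.Helper6.RGammaColim Groth.Agent.Lib.Helper36.FCo

variable {A : Type u} [CommRing A]

/-- objects with `I`-power torsion cohomology -/
def Tors (I : Ideal A) : ObjectProperty (Dual.D A) :=
  fun L : Dual.D A => ∀ i : ℤ, LocCoh.IsPowerTorsion I (Dual.HD A L i)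

lemma shiftStable_tors (I : Ideal A) : ShiftStable (Tors I) := by
  intro E n hE i
  exact isPowerTorsion_of_iso I ((HFShiftIso (A := A) n i (n + i) rfl).app E).symm (hE (n + i))

lemma shiftStable_fc (g : A) : ShiftStable (FC (A := A) g) := fun _ n hE => FC.shift hE n

lemma eq_zero_of_pow_smul_eq_zero {X V : Dual.D A} (f : A) (hV : IsIso (f • 𝟙 V)) (n : ℕ) :
    ∀ φ : X ⟶ V, f ^ n • φ = 0 → φ = 0 := by
  induction n with
  | zero =>
    intro φ h
    rwa [pow_zero, one_smul] at h
  | succ n ih =>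
    intro φ h
    apply ih
    rw [pow_succ', mul_smul] at h
    have h1 : (f ^ n • φ) ≫ (f • 𝟙 V) = 0 := by
      rw [Linear.comp_smul, Category.comp_id]
      exact h
    rw [← cancel_mono (f • 𝟙 V), h1, zero_comp]

lemma isIso_smul_shift {W : Dual.D A} (f : A) (hW : IsIso (f • 𝟙 W)) (q : ℤ) :
    IsIso (f • 𝟙 (W⟦q⟧)) := by
  have h : (CategoryTheory.shiftFunctor (Dual.D A) q).map (f • 𝟙 W) = f • 𝟙 (W⟦q⟧) := by
    rw [Functor.map_smul, CategoryTheory.Functor.map_id]
  rw [← h]
  infer_instance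

lemma isZero_colimit_of_isZero {J : Type*} [Category J] {C : Type*} [Category C]
    [HasZeroMorphisms C] (F : J ⥤ C) [HasColimit F] (h : ∀ j, IsZero (F.obj j)) :
    IsZero (colimit F) := by
  rw [IsZero.iff_id_eq_zero]
  apply colimit.hom_ext
  intro j
  exact (h j).eq_of_src _ _

lemma pow_smul_id_quot_eq_zero (I : Ideal A) (f : A) (hf : f ∈ I) (n : ℕ) :
    f ^ n • 𝟙 (ModuleCat.of A (A ⧸ I ^ n)) = 0 := by
  apply ModuleCat.hom_ext
  apply LinearMap.ext
  intro x
  obtain ⟨a, rfl⟩ := Submodule.Quotient.mk_surjective _ x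
  change f ^ n • (Submodule.Quotient.mk a : A ⧸ I ^ n) = 0
  rw [← Submodule.Quotient.mk_smul, Submodule.Quotient.mk_eq_zero]
  exact Ideal.mul_mem_right _ _ (Ideal.pow_mem_pow hf n)

lemma subsingleton_HDI (I : Ideal A) (f : A) (hf : f ∈ I) (W : Dual.D A) (hW : IsIso (f • 𝟙 W))
    (q : ℤ) : Subsingleton (Dual2.HDI A I W q) := by
  apply ModuleCat.subsingleton_of_isZero
  apply isZero_colimit_of_isZero
  intro j
  apply @ModuleCat.isZero_of_subsingleton _ _ _ ?_
  refine ⟨fun φ ψ => ?_⟩
  have key : ∀ φ : (DerivedCategory.singleFunctor (ModuleCat.{u} A) 0).obj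
      (ModuleCat.of A (A ⧸ I ^ j.unop.unop)) ⟶ W⟦q⟧, φ = 0 := by
    intro φ
    apply eq_zero_of_pow_smul_eq_zero f (isIso_smul_shift f hW q) j.unop.unop
    have h1 : f ^ j.unop.unop • 𝟙 ((DerivedCategory.singleFunctor (ModuleCat.{u} A) 0).obj
        (ModuleCat.of A (A ⧸ I ^ j.unop.unop))) = 0 := by
      rw [← CategoryTheory.Functor.map_id, ← Functor.map_smul, pow_smul_id_quot_eq_zero I f hf,
        CategoryTheory.Functor.map_zero]
    rw [← Category.id_comp φ, ← Linear.smul_comp, h1, zero_comp]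
  exact (key φ).trans (key ψ).symm

lemma isZero_RgammaI_of_isIso_smul (I : Ideal A) [DRing.HasRgammaI I] (f : A) (hf : f ∈ I)
    (W : Dual.D A) (hW : IsIso (f • 𝟙 W)) : IsZero ((DRing.RgammaI I).obj W) := by
  apply isZero_of_forall_isZero_HF
  intro q
  obtain ⟨e⟩ := nonempty_HD_equiv I W q
  have := subsingleton_HDI I f hf W hW q
  have : Subsingleton (Dual.HD A ((DRing.RgammaI I).obj W) q) := e.toEquiv.subsingleton
  exact ModuleCat.isZero_of_subsingleton _

/-- objects on which some `f ∈ I` acts invertibly receive no nonzero maps from torsion objects -/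
theorem rightOrth_of_isIso_smul [IsNoetherianRing A] (I : Ideal A) [DRing.HasRgammaI I] (f : A)
    (hf : f ∈ I) (W : Dual.D A) (hW : IsIso (f • 𝟙 W)) : RightOrth (Tors I) W := by
  obtain ⟨h, ⟨adj⟩⟩ := exists_adj I
  intro T hT a
  have hz := isZero_RgammaI_of_isIso_smul I f hf W hW
  let X : (Tors I).FullSubcategory := ⟨T, hT⟩
  have hsub : ∀ u v : X ⟶ (ObjectProperty.lift (Tors I) (DRing.RgammaI I) h).obj W, u = v := by
    intro u v
    apply ObjectProperty.hom_ext
    exact hz.eq_of_tgt _ _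
  exact (adj.homEquiv X W).injective (hsub _ _)

end Groth.Agent.Lib.Helper36.GM
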