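import Mathlib
import Groth.Agent.Lib.Helper36.GM.Tors
import Groth.Agent.Lib.Helper36.DerivedCompletionCone
import Groth.Agent.Lib.Helper36.Nakayama.Kos

/-!
# Completion maps and torsion objects (helper36)

The derived completion map `K ⟶ K^` induces bijections on maps out of objects with `I`-power
torsion cohomology.
-/

set_option autoImplicit false
universe u
open CategoryTheory CategoryTheory.Limits CategoryTheory.Pretriangulated DerivedCategory
attribute [local instance] HasDerivedCategory.standard

namespace Groth.Agent.Lib.Helper36.GM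

open Groth.Agent.Lib.Helper12 Groth.Agent.Lib.Helper6.PowTorsHB Groth.Agent.Lib.Helper6.RGammaAdj
  Groth.Agent.Lib.Helper36.FCo Groth.Agent.Lib.Helper36.DC Groth.Agent.Lib.Helper36.DCF

variable {A : Type u} [CommRing A]

/-- one step of the derived completion, keeping track of maps from torsion objects -/
theorem exists_completion_step_tors [IsNoetherianRing A] (I : Ideal A) [DRing.HasRgammaI I]
    (g : A) (hg : g ∈ I) (K : Dual.D A) :
    ∃ (C : Dual.D A) (η : K ⟶ C), FC g C ∧
      (∀ E : Dual.D A, FC g E → Function.Bijective (fun v : C ⟶ E => η ≫ v)) ∧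
      (∀ g' : A, FC g' K → FC g' C) ∧
      (∀ T : Dual.D A, Tors I T → Function.Bijective (fun a : T ⟶ K => a ≫ η)) := by
  obtain ⟨C, η, k1, k2, k3, -⟩ := exists_completion_step g K
  refine ⟨C, η, k1, k2, k3, ?_⟩
  obtain ⟨Z, β, γ, hT⟩ := distinguished_cocone_triangle η
  have hZ : LeftOrth (FC g) Z := leftOrth_cone (shiftStable_fc g) η β γ hT k2
  obtain ⟨Z', β', γ', hT'⟩ := distinguished_cocone_triangle (g • 𝟙 Z)
  have hZ' : FC g Z' := fc_cone g β' γ' hT'
  have hiso : IsIso (g • 𝟙 Z) := isIso_smul_of_leftOrth (shiftStable_fc g) g β' γ' hT' hZ hZ'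
  have hr : RightOrth (Tors I) Z := rightOrth_of_isIso_smul I g hg Z hiso
  exact bijective_postcomp_of_rightOrth (shiftStable_tors I) η β γ hT hr

theorem exists_completion_finset_tors [IsNoetherianRing A] (I : Ideal A) [DRing.HasRgammaI I]
    (s : Finset A) (hs : ∀ f ∈ s, f ∈ I) : ∀ K : Dual.D A,
    ∃ (C : Dual.D A) (η : K ⟶ C), SC s C ∧
      (∀ E : Dual.D A, SC s E → Function.Bijective (fun v : C ⟶ E => η ≫ v)) ∧
      (∀ T : Dual.D A, Tors I T → Function.Bijective (fun a : T ⟶ K => a ≫ η)) := by
  classical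
  induction s using Finset.induction_on with
  | empty =>
    intro K
    refine ⟨K, 𝟙 K, fun f hf => absurd hf (Finset.notMem_empty f), fun E _ => ?_, fun T _ => ?_⟩
    · have : (fun v : K ⟶ E => 𝟙 K ≫ v) = id := by
        funext v
        simp
      rw [this]
      exact Function.bijective_id
    · have : (fun a : T ⟶ K => a ≫ 𝟙 K) = id := by
        funext v
        simp
      rw [this]
      exact Function.bijective_id
  | insert g s hg ih =>
    intro K
    obtain ⟨C', η', h1, h2, h3⟩ := ih (fun f hf => hs f (Finset.mem_insert_of_mem hf)) K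
    obtain ⟨C, η, k1, k2, k3, k4⟩ :=
      exists_completion_step_tors I g (hs g (Finset.mem_insert_self g s)) C'
    refine ⟨C, η' ≫ η, ?_, ?_, ?_⟩
    · intro f hf
      rcases Finset.mem_insert.mp hf with rfl | hf'
      · exact k1
      · exact k3 f (h1 f hf')
    · intro E hE
      have hb1 := h2 E (fun f hf => hE f (Finset.mem_insert_of_mem hf))
      have hb2 := k2 E (hE g (Finset.mem_insert_self g s))
      have : (fun v : C ⟶ E => (η' ≫ η) ≫ v) =
          (fun w : C' ⟶ E => η' ≫ w) ∘ (fun v : C ⟶ E => η ≫ v) := by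
        funext v
        simp
      rw [this]
      exact hb1.comp hb2
    · intro T hT
      have hb1 := h3 T hT
      have hb2 := k4 T hT
      have : (fun a : T ⟶ K => a ≫ η' ≫ η) =
          (fun b : T ⟶ C' => b ≫ η) ∘ (fun a : T ⟶ K => a ≫ η') := by
        funext v
        simp
      rw [this]
      exact hb2.comp hb1

theorem exists_completion_tors [IsNoetherianRing A] (I : Ideal A) [DRing.HasRgammaI I]
    (K : Dual.D A) :
    ∃ (C : Dual.D A) (η : K ⟶ C), DRing.IsDerivedComplete I C ∧
      (∀ E : Dual.D A, DRing.IsDerivedComplete I E →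
        Function.Bijective (fun v : C ⟶ E => η ≫ v)) ∧
      (∀ T : Dual.D A, Tors I T → Function.Bijective (fun a : T ⟶ K => a ≫ η)) := by
  obtain ⟨s, hs⟩ : I.FG := IsNoetherian.noetherian I
  have hsI : ∀ f ∈ s, f ∈ I := fun f hf => by
    rw [← hs]
    exact Ideal.subset_span hf
  obtain ⟨C, η, h1, h2, h3⟩ := exists_completion_finset_tors I s hsI K
  refine ⟨C, η, ?_, ?_, h3⟩
  · rw [isDerivedComplete_iff_HD]
    intro f hf i
    rw [← hs] at hf
    exact seqComplete_of_mem_span s (fun f' hf' => h1 f' hf' i) hf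
  · intro E hE
    rw [isDerivedComplete_iff_HD] at hE
    exact h2 E (fun f hf i => hE f (hsI f hf) i)

/-- the completion map induces bijections on maps out of torsion objects -/
theorem bijective_postcomp_unit [IsNoetherianRing A] (I : Ideal A) [DRing.HasRgammaI I]
    [DRing.HasDerivedCompletion I] (K T : Dual.D A) (hT : Tors I T) :
    Function.Bijective (fun a : T ⟶ K => a ≫ DRing.toDerivedCompletion I K) := by
  obtain ⟨C, η, h1, h2, h3⟩ := exists_completion_tors I K
  obtain ⟨e, he⟩ := exists_iso_of_universal (P := DRing.IsDerivedComplete I) η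
    (DRing.toDerivedCompletion I K) h1 ((DRing.derivedCompletion I).obj K).property h2
    (fun E hE => bijective_unit_precomp I K E hE)
  have : (fun a : T ⟶ K => a ≫ DRing.toDerivedCompletion I K) =
      (fun b : T ⟶ C => b ≫ e.hom) ∘ (fun a : T ⟶ K => a ≫ η) := by
    funext a
    show _ = (a ≫ η) ≫ e.hom
    rw [Category.assoc, he]
  rw [this]
  refine Function.Bijective.comp ?_ (h3 T hT)
  constructor
  · intro a b hab
    exact (cancel_mono e.hom).1 hab
  · intro c
    exact ⟨c ≫ e.inv, by simp⟩

end Groth.Agent.Lib.Helper36.GM
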