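import Mathlib
import Groth.Agent.Lib.Helper36.GM.Completion

/-!
# Greenlees–May duality over a Noetherian ring (helper36)
-/

set_option autoImplicit false
universe u
open CategoryTheory CategoryTheory.Limits CategoryTheory.Pretriangulated DerivedCategory
attribute [local instance] HasDerivedCategory.standard

namespace Groth.Agent.Lib.Helper36.GM

open Groth.Agent.Lib.Helper12 Groth.Agent.Lib.Helper6.PowTorsHB Groth.Agent.Lib.Helper6.RGammaAdj
  Groth.Agent.Lib.Helper36.FCo Groth.Agent.Lib.Helper36.DC Groth.Agent.Lib.Helper36.DCF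
  Groth.Agent.Lib.Helper36.DNak

variable {A : Type u} [CommRing A]

section Part1

/-- `RΓ_I` inverts the completion map -/
theorem isIso_RgammaI_map_unit [IsNoetherianRing A] (I : Ideal A) [DRing.HasRgammaI I]
    [DRing.HasDerivedCompletion I] (K : Dual.D A) :
    IsIso ((DRing.RgammaI I).map (DRing.toDerivedCompletion I K)) := by
  obtain ⟨h, ⟨adj⟩⟩ : ∃ h : ∀ K : Dual.D A, Tors I ((DRing.RgammaI I).obj K),
      Nonempty ((Tors I).ι ⊣ (Tors I).lift (DRing.RgammaI I) h) := exists_adj I
  have h1 : IsIso ((ObjectProperty.lift (Tors I) (DRing.RgammaI I) h).map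
      (DRing.toDerivedCompletion I K)) := by
    apply isIso_of_yoneda_map_bijective
    intro T
    have hb := bijective_postcomp_unit I K T.obj T.property
    have : (fun x : T ⟶ (ObjectProperty.lift (Tors I) (DRing.RgammaI I) h).obj K =>
        x ≫ (ObjectProperty.lift (Tors I) (DRing.RgammaI I) h).map
          (DRing.toDerivedCompletion I K)) =
        (adj.homEquiv T _) ∘ (fun a : T.obj ⟶ K => a ≫ DRing.toDerivedCompletion I K) ∘
          (adj.homEquiv T K).symm := by
      funext x
      show _ = adj.homEquiv T _ ((adj.homEquiv T K).symm x ≫ DRing.toDerivedCompletion I K)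
      rw [adj.homEquiv_naturality_right, Equiv.apply_symm_apply]
    rw [this]
    exact (adj.homEquiv T _).bijective.comp (hb.comp (adj.homEquiv T K).symm.bijective)
  exact (inferInstance : IsIso ((ObjectProperty.ι (Tors I)).map
    ((ObjectProperty.lift (Tors I) (DRing.RgammaI I) h).map (DRing.toDerivedCompletion I K))))

end Part1

section Ann

/-- the ideal of scalars acting as zero on an object -/
def annIdeal (X : Dual.D A) : Ideal A where
  carrier := {a | a • 𝟙 X = 0}
  zero_mem' := zero_smul _ _
  add_mem' := by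
    intro a b ha hb
    show (a + b) • 𝟙 X = 0
    rw [add_smul, ha, hb, add_zero]
  smul_mem' := by
    intro c a ha
    show (c • a) • 𝟙 X = 0
    rw [smul_eq_mul, mul_smul, ha, smul_zero]

lemma mem_annIdeal (X : Dual.D A) (a : A) : a ∈ annIdeal X ↔ a • 𝟙 X = 0 := Iff.rfl

/-- an object on which each generator of `I` acts nilpotently has `I`-power torsion cohomology -/
lemma tors_of_pow_smul_eq_zero [IsNoetherianRing A] (I : Ideal A) (s : Finset A)
    (hs : Ideal.span (s : Set A) = I) (X : Dual.D A)
    (h : ∀ g ∈ s, ∃ N : ℕ, (g ^ N) • 𝟙 X = 0) : Tors I X := by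
  have h1 : I ≤ (annIdeal X).radical := by
    rw [← hs, Ideal.span_le]
    intro g hg
    obtain ⟨N, hN⟩ := h g hg
    exact ⟨N, hN⟩
  obtain ⟨n, hn⟩ := Ideal.exists_radical_pow_le_of_fg (annIdeal X)
    (IsNoetherian.noetherian (annIdeal X).radical)
  have h2 : I ^ n ≤ annIdeal X := (Ideal.pow_right_mono h1 n).trans hn
  intro i m
  refine ⟨n, fun a ha => ?_⟩
  have h3 : a • 𝟙 X = 0 := h2 ha
  have h4 : (DerivedCategory.homologyFunctor (ModuleCat.{u} A) i).map (a • 𝟙 X) = 0 := by
    rw [h3, CategoryTheory.Functor.map_zero]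
  rw [Functor.map_smul, CategoryTheory.Functor.map_id] at h4
  exact congrArg (fun φ => φ.hom m) h4

end Ann

section Part2

lemma isDerivedComplete_of_iso (I : Ideal A) {K K' : Dual.D A} (e : K ≅ K')
    (hK : DRing.IsDerivedComplete I K) : DRing.IsDerivedComplete I K' := by
  intro f hf n
  have := hK f hf n
  refine ⟨fun a b => ?_⟩
  have h := Subsingleton.elim
    (a ≫ ((CategoryTheory.shiftFunctor (Dual.D A) n).mapIso e.symm).hom)
    (b ≫ ((CategoryTheory.shiftFunctor (Dual.D A) n).mapIso e.symm).hom)
  exact (cancel_mono ((CategoryTheory.shiftFunctor (Dual.D A) n).mapIso e.symm).hom).1 h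

lemma RightOrth.of_iso {S : Dual.D A → Prop} {W W' : Dual.D A} (e : W ≅ W')
    (hW : RightOrth S W) : RightOrth S W' := by
  intro T hT a
  have := hW T hT (a ≫ e.inv)
  rw [← cancel_mono e.inv, this, zero_comp]

lemma rightOrth_kos {S : Dual.D A → Prop} (hS : ShiftStable S) (fs : List A) (X : DRing.Cx A)
    (hX : RightOrth S (Q.obj X : Dual.D A)) : RightOrth S (Q.obj (kos fs X) : Dual.D A) := by
  induction fs with
  | nil => exact hX
  | cons f fs ih =>
    obtain ⟨β, γ, hT⟩ := exists_distTriang_cone_smul f (kos fs X)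
    exact RightOrth.obj₃ hS _ hT ih ih

/-- a derived complete object receiving no nonzero maps from torsion objects is zero -/
theorem isZero_of_complete_of_rightOrth [IsNoetherianRing A] (I : Ideal A) (C : Dual.D A)
    (hC : DRing.IsDerivedComplete I C) (hr : RightOrth (Tors I) C) : IsZero C := by
  obtain ⟨s, hs⟩ : I.FG := IsNoetherian.noetherian I
  have hsI : ∀ f ∈ s.toList, f ∈ I := fun f hf => by
    rw [← hs]
    exact Ideal.subset_span (Finset.mem_toList.1 hf)
  let X := Q.objPreimage C
  let e : Q.obj X ≅ C := Q.objObjPreimageIso C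
  have hX : DRing.IsDerivedComplete I (Q.obj X : Dual.D A) :=
    isDerivedComplete_of_iso I e.symm hC
  have hrX : RightOrth (Tors I) (Q.obj X : Dual.D A) := RightOrth.of_iso e.symm hr
  have h1 : RightOrth (Tors I) (Q.obj (kos s.toList X) : Dual.D A) :=
    rightOrth_kos (shiftStable_tors I) s.toList X hrX
  have h2 : Tors I (Q.obj (kos s.toList X) : Dual.D A) :=
    tors_of_pow_smul_eq_zero I s hs _
      (fun g hg => exists_pow_smul_kos_eq_zero s.toList X g (Finset.mem_toList.2 hg))
  have h0 : IsZero (Q.obj (kos s.toList X) : Dual.D A) := by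
    rw [IsZero.iff_id_eq_zero]
    exact h1 _ h2 _
  exact (isZero_of_isZero_kos I s.toList hsI X hX h0).of_iso e.symm

lemma shiftStable_complete (I : Ideal A) : ShiftStable (DRing.IsDerivedComplete I) :=
  fun E n hE => isDerivedComplete_shift I E hE n

/-- an object receiving no nonzero maps from torsion objects maps trivially to complete
objects -/
theorem leftOrth_complete_of_rightOrth [IsNoetherianRing A] (I : Ideal A) [DRing.HasRgammaI I]
    (V : Dual.D A) (hV : RightOrth (Tors I) V) : LeftOrth (DRing.IsDerivedComplete I) V := by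
  obtain ⟨C, η, h1, h2, h3⟩ := exists_completion_tors I V
  have hC : RightOrth (Tors I) C := by
    intro T hT a
    obtain ⟨b, hb⟩ := (h3 T hT).2 a
    have hb' : b ≫ η = a := hb
    rw [← hb', hV T hT b, zero_comp]
  have hz : IsZero C := isZero_of_complete_of_rightOrth I C h1 hC
  intro E hE c
  obtain ⟨v, hv⟩ := (h2 E hE).2 c
  have hv' : η ≫ v = c := hv
  rw [← hv', hz.eq_of_src v 0, comp_zero]

/-- the counit `RΓ_I K ⟶ K` induces bijections on maps to derived complete objects -/
theorem exists_counit_universal [IsNoetherianRing A] (I : Ideal A) [DRing.HasRgammaI I]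
    (K : Dual.D A) : ∃ ε : (DRing.RgammaI I).obj K ⟶ K, ∀ E : Dual.D A,
      DRing.IsDerivedComplete I E → Function.Bijective (fun v : K ⟶ E => ε ≫ v) := by
  obtain ⟨h, ⟨adj⟩⟩ : ∃ h : ∀ K : Dual.D A, Tors I ((DRing.RgammaI I).obj K),
      Nonempty ((Tors I).ι ⊣ (Tors I).lift (DRing.RgammaI I) h) := exists_adj I
  let ε : (DRing.RgammaI I).obj K ⟶ K := adj.counit.app K
  refine ⟨ε, ?_⟩
  have hε : ∀ T : Dual.D A, Tors I T →
      Function.Bijective (fun b : T ⟶ (DRing.RgammaI I).obj K => b ≫ ε) := by
    intro T hT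
    let X : (Tors I).FullSubcategory := ⟨T, hT⟩
    have : (fun b : T ⟶ (DRing.RgammaI I).obj K => b ≫ ε) =
        (adj.homEquiv X K).symm ∘
          (fun b : T ⟶ (DRing.RgammaI I).obj K =>
            (ObjectProperty.homMk b : X ⟶ (ObjectProperty.lift (Tors I) (DRing.RgammaI I) h).obj K)) := by
      funext b
      show _ = (adj.homEquiv X K).symm _
      rw [Adjunction.homEquiv_symm_apply]
      rfl
    rw [this]
    refine (adj.homEquiv X K).symm.bijective.comp ⟨?_, ?_⟩
    · intro b b' hbb
      exact congrArg (fun φ => φ.hom) hbb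
    · intro φ
      exact ⟨φ.hom, rfl⟩
  obtain ⟨V, β, γ, hT⟩ := distinguished_cocone_triangle ε
  have hV : RightOrth (Tors I) V := rightOrth_cone (shiftStable_tors I) ε β γ hT hε
  have hV' : LeftOrth (DRing.IsDerivedComplete I) V := leftOrth_complete_of_rightOrth I V hV
  exact precomp_bijective_of_leftOrth (shiftStable_complete I) ε β γ hT hV'

end Part2

/-- **Greenlees–May duality** over a Noetherian ring. -/
theorem greenlees_may [IsNoetherianRing A] (I : Ideal A) [DRing.HasRgammaI I]
    [DRing.HasDerivedCompletion I] (K : Dual.D A) :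
    Nonempty ((DRing.RgammaI I).obj ((DRing.derivedCompletion I).obj K).obj ≅
      (DRing.RgammaI I).obj K) ∧
    Nonempty ((DRing.derivedCompletion I).obj ((DRing.RgammaI I).obj K) ≅
      (DRing.derivedCompletion I).obj K) := by
  constructor
  · have := isIso_RgammaI_map_unit I K
    exact ⟨(asIso ((DRing.RgammaI I).map (DRing.toDerivedCompletion I K))).symm⟩
  · obtain ⟨ε, hε⟩ := exists_counit_universal I K
    have hu : ∀ E : Dual.D A, DRing.IsDerivedComplete I E → Function.Bijective
        (fun v : ((DRing.derivedCompletion I).obj K).obj ⟶ E =>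
          (ε ≫ DRing.toDerivedCompletion I K) ≫ v) := by
      intro E hE
      have : (fun v : ((DRing.derivedCompletion I).obj K).obj ⟶ E =>
          (ε ≫ DRing.toDerivedCompletion I K) ≫ v) =
          (fun w : K ⟶ E => ε ≫ w) ∘
            (fun v : ((DRing.derivedCompletion I).obj K).obj ⟶ E =>
              DRing.toDerivedCompletion I K ≫ v) := by
        funext v
        simp
      rw [this]
      exact (hε E hE).comp (bijective_unit_precomp I K E hE)
    obtain ⟨e, -⟩ := exists_iso_of_universal (P := DRing.IsDerivedComplete I)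
      (DRing.toDerivedCompletion I ((DRing.RgammaI I).obj K))
      (ε ≫ DRing.toDerivedCompletion I K)
      ((DRing.derivedCompletion I).obj ((DRing.RgammaI I).obj K)).property
      ((DRing.derivedCompletion I).obj K).property
      (fun E hE => bijective_unit_precomp I ((DRing.RgammaI I).obj K) E hE) hu
    exact ⟨(DRing.IsDerivedComplete I).fullyFaithfulι.preimageIso e⟩

end Groth.Agent.Lib.Helper36.GM
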